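import Groth.Agent.Vancyc.H178.QuadFib
import Groth.Agent.Etrest.HConstIso

/-!
# The cohomology of the geometric generic fibre of the split even quadric model

`Ω` a separably closed field over the local ring `R`.
* `exists_roots`, `nonempty_iso`: if `b² - 4c ≠ 0` in `Ω`, the base change to `Ω` of
  `x_0² + b x_0 + c + ∑ x_i x_{m+i} = 0` is isomorphic to that of the standard quadric
  `∑ x_i y_i = s (1 - s)`;
* `even_of_std`: it has the `ℤ/N`-cohomology of a `2m`-sphere, given that of the standard quadric.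
-/

set_option autoImplicit false
universe u
open CategoryTheory CategoryTheory.Limits AlgebraicGeometry

namespace Groth.Agent.Vancyc.H459.SphereModel

open Groth.Agent.Vancyc.H694.StdT Groth.Agent.Vancyc.H685.StdModel

/-- The `ℤ/N`-cohomology of a sphere of dimension `n ≥ 1`. -/
def HSphere (N n : ℕ) (P : Scheme.{u}) : Prop :=
  (∀ q : ℕ, q ≠ 0 → q ≠ n → Subsingleton (EtCoh.H P (EtCoh.const P (ZMod N)) q)) ∧
    Nonempty (EtCoh.H P (EtCoh.const P (ZMod N)) n ≃+ ZMod N) ∧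
    Nonempty (EtCoh.H P (EtCoh.const P (ZMod N)) 0 ≃+ ZMod N)

theorem HSphere.of_equiv {N n : ℕ} {P Q : Scheme.{u}} (h : HSphere N n Q)
    (e : ∀ q, Nonempty (EtCoh.H P (EtCoh.const P (ZMod N)) q ≃+ EtCoh.H Q (EtCoh.const Q (ZMod N)) q)) :
    HSphere N n P := by
  obtain ⟨h1, ⟨h2⟩, ⟨h3⟩⟩ := h
  refine ⟨fun q hq hq' => ?_, ?_, ?_⟩
  · obtain ⟨e⟩ := e q
    have := h1 q hq hq'
    exact e.toEquiv.subsingleton
  · obtain ⟨e⟩ := e n
    exact ⟨e.trans h2⟩
  · obtain ⟨e⟩ := e 0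
    exact ⟨e.trans h3⟩

theorem HSphere.of_iso {N n : ℕ} {P Q : Scheme.{u}} (h : HSphere N n Q) (e : P ≅ Q) :
    HSphere N n P :=
  h.of_equiv fun q => Etrest.HConstIso.nonempty_HConst e.symm (ZMod N) q

section Even

open Groth.Agent.Vancyc.H685 Groth.Agent.Vancyc.H178.QuadFib
open scoped TensorProduct

variable (R Ω : Type u) [CommRing R] [IsLocalRing R] [Field Ω] [Algebra R Ω]

/-- If `α + β = -b`, `α β = c` and `α ≠ β` in `Ω`, the base change to `Ω` of the even model is isomorphic to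
that of the standard quadric. -/
theorem nonempty_iso (m : ℕ) (b c : R) (α β : Ω) (h1 : α + β = - algebraMap R Ω b)
    (h2 : α * β = algebraMap R Ω c) (h3 : α ≠ β) :
    Nonempty (VanCyc.fib R (modelEven R m b c) Ω ≅ VanCyc.fib R (stdStr R m) Ω) := by
  have hd : β - α ≠ 0 := sub_ne_zero.2 (Ne.symm h3)
  obtain ⟨f, fx, fy, fs⟩ := theta_core (m := m) (b := b) (c := c)
    (D := VanCyc.degQuadRing R (stdT R m) b c ⊗[R] Ω) Algebra.TensorProduct.includeLeft
    Algebra.TensorProduct.includeRight α β h1 h2 h3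
  obtain ⟨f', fx', fy', fs'⟩ := eta_core (m := m) (b := b) (c := c) (D := stdRing R m ⊗[R] Ω)
    Algebra.TensorProduct.includeLeft Algebra.TensorProduct.includeRight α β h1 h2
  obtain ⟨θ, θ1, θ2⟩ := tensor_lift f
  obtain ⟨η, η1, η2⟩ := tensor_lift f'
  have θx : ∀ i, θ (sx R m i ⊗ₜ 1) = dx R m b c (Fin.succ (lo m i)) ⊗ₜ ((β - α)⁻¹ ^ 2) := by
    intro i
    rw [θ1, fx]
    change (_ ⊗ₜ[R] (1 : Ω)) * (1 ⊗ₜ[R] (β - α)⁻¹) ^ 2 = _
    rw [Algebra.TensorProduct.tmul_pow, Algebra.TensorProduct.tmul_mul_tmul, one_pow, mul_one, one_mul]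
  have θy : ∀ i, θ (sy R m i ⊗ₜ 1) = dx R m b c (Fin.succ (hi m i)) ⊗ₜ 1 := fun i => (θ1 _).trans (fy i)
  have θs : θ (ss R m ⊗ₜ 1) = dx R m b c 0 ⊗ₜ (β - α)⁻¹ - 1 ⊗ₜ (α * (β - α)⁻¹) := by
    rw [θ1, fs]
    simp only [Algebra.TensorProduct.includeLeft_apply, Algebra.TensorProduct.includeRight_apply,
      Algebra.TensorProduct.tmul_mul_tmul, mul_one, one_mul]
  have ηl : ∀ i, η (dx R m b c (Fin.succ (lo m i)) ⊗ₜ 1) = sx R m i ⊗ₜ ((β - α) ^ 2) := by
    intro i
    rw [η1, fx']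
    change (_ ⊗ₜ[R] (1 : Ω)) * (1 ⊗ₜ[R] (β - α)) ^ 2 = _
    rw [Algebra.TensorProduct.tmul_pow, Algebra.TensorProduct.tmul_mul_tmul, one_pow, mul_one, one_mul]
  have ηh : ∀ i, η (dx R m b c (Fin.succ (hi m i)) ⊗ₜ 1) = sy R m i ⊗ₜ 1 :=
    fun i => (η1 _).trans (fy' i)
  have η0 : η (dx R m b c 0 ⊗ₜ 1) = 1 ⊗ₜ α + ss R m ⊗ₜ (β - α) := by
    rw [η1, fs']
    change (1 ⊗ₜ[R] α) + (_ ⊗ₜ[R] (1 : Ω)) * (1 ⊗ₜ[R] (β - α)) = _
    rw [Algebra.TensorProduct.tmul_mul_tmul, mul_one, one_mul]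
  -- general elements
  have gen : ∀ {A B : Type u} [CommRing A] [Algebra R A] [CommRing B] [Algebra R B]
      (g : A ⊗[R] Ω →ₐ[R] B ⊗[R] Ω) (a : A) (w : Ω), g (a ⊗ₜ w) = g (a ⊗ₜ 1) * g (1 ⊗ₜ w) := by
    intro A B _ _ _ _ g a w
    rw [← map_mul, Algebra.TensorProduct.tmul_mul_tmul, mul_one, one_mul]
  have hθη : θ.comp η = AlgHom.id R _ := by
    apply Algebra.TensorProduct.ext
    · apply deg_ext
      · change θ (η (dx R m b c 0 ⊗ₜ 1)) = dx R m b c 0 ⊗ₜ 1
        rw [η0, map_add, θ2, gen θ (ss R m), θs, θ2, sub_mul, Algebra.TensorProduct.tmul_mul_tmul,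
          Algebra.TensorProduct.tmul_mul_tmul, mul_one, mul_one, mul_assoc, inv_mul_cancel₀ hd,
          mul_one, add_sub_cancel]
      · intro i
        change θ (η (dx R m b c (Fin.succ (lo m i)) ⊗ₜ 1)) = dx R m b c (Fin.succ (lo m i)) ⊗ₜ 1
        rw [ηl, gen θ (sx R m i), θx, θ2, Algebra.TensorProduct.tmul_mul_tmul, mul_one, ← mul_pow,
          inv_mul_cancel₀ hd, one_pow]
      · intro i
        change θ (η (dx R m b c (Fin.succ (hi m i)) ⊗ₜ 1)) = dx R m b c (Fin.succ (hi m i)) ⊗ₜ 1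
        rw [ηh, θy]
    · ext w
      change θ (η (1 ⊗ₜ w)) = 1 ⊗ₜ w
      rw [η2, θ2]
  have hηθ : η.comp θ = AlgHom.id R _ := by
    apply Algebra.TensorProduct.ext
    · apply std_ext
      · intro i
        change η (θ (sx R m i ⊗ₜ 1)) = sx R m i ⊗ₜ 1
        rw [θx, gen η (dx R m b c _), ηl, η2, Algebra.TensorProduct.tmul_mul_tmul, mul_one, ← mul_pow,
          mul_inv_cancel₀ hd, one_pow]
      · intro i
        change η (θ (sy R m i ⊗ₜ 1)) = sy R m i ⊗ₜ 1
        rw [θy, ηh]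
      · change η (θ (ss R m ⊗ₜ 1)) = ss R m ⊗ₜ 1
        rw [θs, map_sub, η2, gen η (dx R m b c _), η0, η2, add_mul,
          Algebra.TensorProduct.tmul_mul_tmul, Algebra.TensorProduct.tmul_mul_tmul, mul_one, mul_one,
          mul_inv_cancel₀ hd, add_sub_cancel_left]
    · ext w
      change η (θ (1 ⊗ₜ w)) = 1 ⊗ₜ w
      rw [θ2, η2]
  exact ⟨{
    hom := fibMap θ
    inv := fibMap η
    hom_inv_id := by rw [fibMap_comp, hθη, fibMap_id]
    inv_hom_id := by rw [fibMap_comp, hηθ, fibMap_id] }⟩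

/-- The roots of a quadratic polynomial with nonzero discriminant over a separably closed field. -/
theorem exists_roots {Ω : Type u} [Field Ω] [IsSepClosed Ω] (b c : Ω) (h : b ^ 2 - 4 * c ≠ 0) :
    ∃ α β : Ω, α + β = -b ∧ α * β = c ∧ α ≠ β := by
  let p : Polynomial Ω := Polynomial.X ^ 2 + Polynomial.C b * Polynomial.X + Polynomial.C c
  have hp : p = Polynomial.C 1 * Polynomial.X ^ 2 + Polynomial.C b * Polynomial.X + Polynomial.C c := by
    simp [p]
  have hdeg : p.degree = 2 := by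
    rw [hp]
    exact Polynomial.degree_quadratic one_ne_zero
  have hder : Polynomial.derivative p = Polynomial.C 2 * Polynomial.X + Polynomial.C b := by
    simp only [p, Polynomial.derivative_add, Polynomial.derivative_X_pow, Polynomial.derivative_mul,
      Polynomial.derivative_C, Polynomial.derivative_X, zero_mul, zero_add, mul_one, add_zero]
    norm_num
  have hsep : p.Separable := by
    refine ⟨Polynomial.C (-4 * (b ^ 2 - 4 * c)⁻¹),
      Polynomial.C ((b ^ 2 - 4 * c)⁻¹) * Polynomial.derivative p, ?_⟩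
    rw [hder]
    have h1 : Polynomial.C ((b ^ 2 - 4 * c)⁻¹) * Polynomial.C (b ^ 2 - 4 * c) = 1 := by
      rw [← Polynomial.C_mul, inv_mul_cancel₀ h, Polynomial.C_1]
    simp only [p, Polynomial.C_mul, Polynomial.C_neg, Polynomial.C_sub, Polynomial.C_pow] at h1 ⊢
    have h4 : (Polynomial.C 4 : Polynomial Ω) = 4 := rfl
    have h2 : (Polynomial.C 2 : Polynomial Ω) = 2 := rfl
    rw [h4] at h1 ⊢
    rw [h2]
    linear_combination h1
  obtain ⟨α, hα⟩ := IsSepClosed.exists_root p (by rw [hdeg]; decide) hsep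
  have hα' : α ^ 2 + b * α + c = 0 := by
    have := hα.eq_zero
    simpa [p] using this
  refine ⟨α, -b - α, by ring, by linear_combination -hα', ?_⟩
  intro he
  apply h
  have h1 : 2 * α + b = 0 := by linear_combination he
  linear_combination (2 * α + b) * h1 - 4 * hα'

/-- **The even model**, from the standard quadric. -/
theorem even_of_std [IsSepClosed Ω] (m : ℕ) (b c : R) (hΔ : algebraMap R Ω (b ^ 2 - 4 * c) ≠ 0) {N : ℕ}
    (hstd : HSphere N (2 * m) (VanCyc.fib R (stdStr R m) Ω)) :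
    HSphere N (2 * m) (VanCyc.fib R (modelEven R m b c) Ω) := by
  obtain ⟨α, β, h1, h2, h3⟩ := exists_roots (algebraMap R Ω b) (algebraMap R Ω c) (by
    simpa only [map_sub, map_mul, map_pow, map_ofNat] using hΔ)
  obtain ⟨Ψ⟩ := nonempty_iso R Ω m b c α β h1 h2 h3
  exact hstd.of_iso Ψ

end Even

end Groth.Agent.Vancyc.H459.SphereModel
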